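import Groth.Agent.H22Alg.DetDeg
import Groth.Agent.H22Alg.ExtPowHom
import Groth.Agent.H11Ample.Basic
import Groth.Agent.H25Par.Rank

/-!
# Multiplication of sections into the determinant is not injective
-/

set_option autoImplicit false
set_option linter.style.haveILetI false
set_option linter.unusedSectionVars false
set_option backward.isDefEq.respectTransparency false
set_option maxHeartbeats 1000000
set_option synthInstance.maxHeartbeats 200000

universe u

open CategoryTheory CategoryTheory.Limits AlgebraicGeometry Opposite TopologicalSpace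
open scoped TensorProduct
open Groth.Agent Groth.Agent.H11Ample Groth.Agent.H22Alg

noncomputable section

namespace Groth.Agent.H25Mul

/-- Cramer's relation among one more vector than the rank. -/
theorem laplace {R M : Type*} [CommRing R] [AddCommGroup M] [Module R M] {r : ℕ}
    (b : Module.Basis (Fin r) R M) (x : Fin (r + 1) → M) :
    ∑ j : Fin (r + 1), (-1 : ℤ) ^ (j : ℕ) • b.det (x ∘ j.succAbove) • x j = 0 := by
  apply b.ext_elem
  intro l
  let A : Matrix (Fin (r + 1)) (Fin (r + 1)) R :=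
    Matrix.of fun j => Fin.cons (b.repr (x j) l) (fun i => b.repr (x j) i)
  have h0 : A.det = 0 := Matrix.det_zero_of_column_eq (Fin.succ_ne_zero l).symm fun j => by simp [A]
  rw [Matrix.det_succ_column_zero] at h0
  have hsub : ∀ j : Fin (r + 1), (A.submatrix j.succAbove Fin.succ).det = b.det (x ∘ j.succAbove) := fun j => by
    rw [Module.Basis.det_apply, ← Matrix.det_transpose]
    congr 1
  rw [map_zero, Finsupp.zero_apply, ← h0, map_sum, Finsupp.finsetSum_apply]
  refine Finset.sum_congr rfl fun j _ => ?_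
  rw [map_zsmul, Finsupp.smul_apply, map_smul, Finsupp.smul_apply, hsub j, zsmul_eq_mul, smul_eq_mul]
  simp [A]
  ring

variable {X : Scheme.{u}}

/-- The tensor of a section and the exterior product of the others. -/
theorem sum_tm_eq_zero {E D : X.Modules} {r : ℕ} (ψ : ExtPowSheaf.sheaf r E ⟶ D) (V : X.Opens)
    (b : Module.Basis (Fin r) Γ(X, V) Γ(E, V)) (x : Fin (r + 1) → Γ(E, V)) :
    ∑ j : Fin (r + 1), (-1 : ℤ) ^ (j : ℕ) • tm (x j)
      (ψ.app V (ExtPowSheaf.η r E V (exteriorPower.ιMulti _ r (x ∘ j.succAbove)))) = 0 := by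
  let d := ψ.app V (ExtPowSheaf.η r E V (exteriorPower.ιMulti _ r (b : Fin r → Γ(E, V))))
  let T : Γ(E, V) →+ Γ(CohB1.tensorMod E D, V) :=
    AddMonoidHom.mk' (fun m => tm m d) fun m m' => tm_add_left m m' d
  refine Eq.trans (Finset.sum_congr rfl fun j _ => ?_)
    (((map_sum T _ Finset.univ).symm.trans (congrArg T (laplace b x))).trans (map_zero T))
  rw [map_zsmul]
  congr 1
  show _ = tm (b.det (x ∘ j.succAbove) • x j) d
  rw [tm_smul_left, ← tm_smul_right]
  congr 1
  rw [DetDeg.ιMulti_eq_det_smul b (x ∘ j.succAbove), map_smul]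
  exact Scheme.Modules.Hom.app_smul ψ _ _

/-- If sections generate on a nonempty open, their germs span the stalk there. -/
theorem span_germ_eq_top {E : X.Modules} {U : X.Opens} {x : X} (hx : x ∈ U) {J : Type u}
    (s : J → (Coh.structureModule X ⟶ E))
    (he : Epi ((Scheme.Modules.restrictFunctor U.ι).map (Sigma.desc s))) :
    Submodule.span (X.presheaf.stalk x)
      (Set.range fun m : Γ(E, ⊤) => E.presheaf.germ ⊤ x trivial m) = ⊤ := by
  let P := Submodule.span (X.presheaf.stalk x)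
    (Set.range fun m : Γ(E, ⊤) => E.presheaf.germ ⊤ x trivial m)
  let ψ : E ⟶ H06Mod.sky x (E.presheaf.stalk x ⧸ P) := H06Mod.homOfStalk P.mkQ
  have h0 : Sigma.desc s ≫ ψ = 0 := by
    refine Sigma.hom_ext _ _ fun j => ?_
    rw [Sigma.ι_desc_assoc, comp_zero]
    refine Scheme.Modules.hom_ext _ _ fun W => ?_
    ext a
    refine H06Mod.skyEval_ext (x := x) (N := E.presheaf.stalk x ⧸ P) fun hxW => ?_
    change H06Mod.skyEval x _ W hxW (ψ.app W ((s j).app W a)) = _
    rw [H06Mod.app_unit (s j) W a, H06Mod.skyEval_homOfStalk, H06Mod.germ_smul, TopCat.Presheaf.germ_res_apply]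
    exact (Submodule.Quotient.mk_eq_zero P).2 (P.smul_mem _ (Submodule.subset_span ⟨_, rfl⟩))
  have h1 : (Scheme.Modules.restrictFunctor U.ι).map ψ = 0 := by
    haveI := he
    rw [← cancel_epi ((Scheme.Modules.restrictFunctor U.ι).map (Sigma.desc s)), ← Functor.map_comp, h0,
      comp_zero]
    rfl
  refine eq_top_iff.2 fun y _ => ?_
  obtain ⟨W, hW, a, rfl⟩ := TopCat.Presheaf.exists_germ_eq E.presheaf y
  let W' := U.ι ''ᵁ (U.ι ⁻¹ᵁ W)
  have hW' : W' ≤ W := by
    rw [show W' = U.ι.opensRange ⊓ W from Scheme.Hom.image_preimage_eq_opensRange_inf _ _]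
    exact inf_le_right
  have hxW' : x ∈ W' := ⟨⟨x, hx⟩, hW, rfl⟩
  rw [← TopCat.Presheaf.germ_res_apply E.presheaf (homOfLE hW') x hxW' a]
  refine (Submodule.Quotient.mk_eq_zero P).1 ?_
  refine (H06Mod.skyEval_homOfStalk P.mkQ W' hxW' _).symm.trans ?_
  have h2 := congrArg (fun φ => Scheme.Modules.Hom.app φ (U.ι ⁻¹ᵁ W)) h1
  have h3 : ψ.app W' (E.presheaf.map (homOfLE hW').op a) = 0 := by
    exact congr($h2 (E.presheaf.map (homOfLE hW').op a))
  exact (congrArg (H06Mod.skyEval x _ W' hxW') h3).trans (map_zero _)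

/-- The exterior product of sections with independent generic germs is nonzero. -/
theorem η_ne_zero [IsIntegral X] {E : X.Modules} {r : ℕ} (hE : FlatMod.IsFinLocFreeOfRank r E)
    (e : Fin r → Γ(E, ⊤))
    (he : LinearIndependent (X.presheaf.stalk (genericPoint X))
      fun i => E.presheaf.germ ⊤ (genericPoint X) trivial (e i)) :
    ExtPowSheaf.η r E ⊤ (exteriorPower.ιMulti _ r e) ≠ 0 := by
  intro h
  have hq := H8Props.FinLocFree.isQCoh_of_isFinLocFree E fun y => let ⟨V, hV⟩ := hE y; ⟨V, r, hV⟩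
  obtain ⟨c⟩ := DetDeg.nonempty_chart hE e (genericPoint X)
  let v : Fin r → Γ(E, c.U) := fun i => E.presheaf.map (homOfLE (le_top : c.U ≤ ⊤)).op (e i)
  have h1 : ExtPowSheaf.η r E c.U (exteriorPower.ιMulti _ r v) = 0 := by
    rw [← ExtPowSheaf.res_ιMulti r E (le_top : c.U ≤ ⊤), ← ExtPowSheaf.η_res, h, map_zero]
  have h2 : exteriorPower.ιMulti Γ(X, c.U) r v = 0 :=
    ExtPowSheaf.injective_η hq c.hU (h1.trans (map_zero _).symm)
  rw [DetDeg.ιMulti_eq_det_smul c.b v] at h2
  have h3 : c.b.det v = 0 := (DetDeg.bijective_smul_ιMulti c.b).1 (h2.trans (zero_smul _ _).symm)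
  haveI : Nonempty c.U := ⟨⟨_, c.hx⟩⟩
  rw [Module.Basis.det_apply] at h3
  obtain ⟨a, ha, ha0⟩ := (Matrix.exists_mulVec_eq_zero_iff).2 h3
  have h4 : ∑ i, a i • v i = 0 := by
    apply c.b.ext_elem
    intro l
    have := congrFun ha0 l
    simpa [Matrix.mulVec, dotProduct, Module.Basis.toMatrix_apply, mul_comm, Finsupp.finsetSum_apply] using this
  have h5 := congrArg (E.presheaf.germ c.U (genericPoint X) c.hx) h4
  simp only [map_sum, map_zero, H06Mod.germ_smul, v, TopCat.Presheaf.germ_res_apply] at h5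
  have h6 := Fintype.linearIndependent_iff.1 he _ h5
  refine ha (funext fun i => germ_injective_of_isIntegral X (genericPoint X) c.hx ?_)
  rw [h6 i, Pi.zero_apply, map_zero]

/-- Sections with generic germs forming a basis. -/
theorem exists_frame [IsIntegral X] [IsLocallyNoetherian X] {E : X.Modules} {r : ℕ} (hE : FlatMod.IsFinLocFreeOfRank r E)
    (hs : Submodule.span (X.presheaf.stalk (genericPoint X))
      (Set.range fun m : Γ(E, ⊤) => E.presheaf.germ ⊤ (genericPoint X) trivial m) = ⊤) :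
    ∃ e : Fin r → Γ(E, ⊤), LinearIndependent (X.presheaf.stalk (genericPoint X))
      fun i => E.presheaf.germ ⊤ (genericPoint X) trivial (e i) := by
  classical
  letI : Field (X.presheaf.stalk (genericPoint X)) := inferInstanceAs (Field X.functionField)
  obtain ⟨hfree, hfin, hr⟩ := H25Par.finrank_stalk hE (genericPoint X)
  haveI := hfin
  obtain ⟨t, hts, htspan, hli⟩ := exists_linearIndependent (X.presheaf.stalk (genericPoint X))
    (Set.range fun m : Γ(E, ⊤) => E.presheaf.germ ⊤ (genericPoint X) trivial m)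
  let B := Module.Basis.mk hli (by rw [Subtype.range_coe, htspan, hs])
  haveI : Fintype t := hli.setFinite.fintype
  let σ : Fin r ≃ t := (Fintype.equivFinOfCardEq ((Module.finrank_eq_card_basis B).symm.trans hr)).symm
  choose e he using fun i => hts (σ i).2
  refine ⟨e, ?_⟩
  rw [show (fun i => E.presheaf.germ ⊤ (genericPoint X) trivial (e i)) = Subtype.val ∘ σ from funext he]
  exact hli.comp σ σ.injective

theorem main [IsIntegral X] [IsLocallyNoetherian X] (hX : IsField Γ(X, ⊤)) {E D : X.Modules} {r : ℕ}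
    (hE : FlatMod.IsFinLocFreeOfRank r E)
    (hgen : ∃ (U : X.Opens) (J : Type u) (s : J → (Coh.structureModule X ⟶ E)),
      (U : Set X).Nonempty ∧ Epi ((Scheme.Modules.restrictFunctor U.ι).map (Sigma.desc s)))
    (hlt : r < Module.finrank Γ(X, ⊤) Γ(E, ⊤)) (hD : ExtPow.IsExtPow r E D) :
    ¬ Function.Injective
      ((toSheafify (Opens.grothendieckTopology ↥X) (CohB1.tensorPre E D).presheaf).app (Opposite.op ⊤)) := by
  classical
  have hq := H8Props.FinLocFree.isQCoh_of_isFinLocFree E fun y => let ⟨V, hV⟩ := hE y; ⟨V, r, hV⟩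
  obtain ⟨U, J, s, hU, he⟩ := hgen
  have hξ : genericPoint X ∈ U := ((genericPoint_spec X).mem_open_set_iff U.2).2 (by simpa using hU)
  obtain ⟨e, hli⟩ := exists_frame hE (span_germ_eq_top hξ s he)
  obtain ⟨ψ⟩ := ExtPowHom.nonempty_iso (ExtPowSheaf.isExtPow_sheaf hq) hD
  letI : Field Γ(X, ⊤) := hX.toField
  haveI : Nonempty (⊤ : X.Opens) := ⟨⟨genericPoint X, trivial⟩⟩
  have hliK : LinearIndependent Γ(X, ⊤) e := by
    refine Fintype.linearIndependent_iff.2 fun a ha i => germ_injective_of_isIntegral X (genericPoint X) (U := ⊤) trivial ?_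
    have h := congrArg (E.presheaf.germ ⊤ (genericPoint X) trivial) ha
    simp only [map_sum, map_zero, H06Mod.germ_smul] at h
    rw [Fintype.linearIndependent_iff.1 hli _ h i, map_zero]
  have hne : Submodule.span Γ(X, ⊤) (Set.range e) ≠ ⊤ := fun h => by
    have h1 := finrank_range_le_card (R := Γ(X, ⊤)) e
    rw [Set.finrank, h, finrank_top, Fintype.card_fin] at h1
    omega
  obtain ⟨e₀, -, he₀⟩ := SetLike.exists_of_lt (lt_top_iff_ne_top.2 hne)
  obtain ⟨f, hf0, hf⟩ := Submodule.exists_dual_map_eq_bot_of_notMem he₀ inferInstance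
  let x : Fin (r + 1) → Γ(E, ⊤) := Fin.cons e₀ e
  let d : Fin (r + 1) → Γ(D, ⊤) := fun j =>
    ψ.hom.app ⊤ (ExtPowSheaf.η r E ⊤ (exteriorPower.ιMulti _ r (x ∘ j.succAbove)))
  let z : Γ(E, ⊤) ⊗[Γ(X, ⊤)] Γ(D, ⊤) := ∑ j : Fin (r + 1), (-1 : ℤ) ^ (j : ℕ) • (x j ⊗ₜ d j)
  have hfe : ∀ i, f (e i) = 0 := fun i => by
    have h : f (e i) ∈ (⊥ : Submodule Γ(X, ⊤) Γ(X, ⊤)) :=
      hf ▸ Submodule.mem_map_of_mem (f := f) (Submodule.subset_span (R := Γ(X, ⊤)) (Set.mem_range_self (f := e) i))
    exact (Submodule.mem_bot Γ(X, ⊤)).1 h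
  have hd0 : d 0 ≠ 0 := by
    intro h
    refine η_ne_zero hE e hli ?_
    have hx0 : x ∘ (0 : Fin (r + 1)).succAbove = e := funext fun i => by simp [x]
    have h' := congrArg (ψ.inv.app ⊤) h
    rw [map_zero] at h'
    rw [← hx0, ← h']
    exact (congr($(congr(Scheme.Modules.Hom.app $(ψ.hom_inv_id) ⊤))
      (ExtPowSheaf.η r E ⊤ (exteriorPower.ιMulti _ r (x ∘ (0 : Fin (r + 1)).succAbove))))).symm
  have hz : z ≠ 0 := by
    intro h
    have h' := congrArg ((TensorProduct.lid Γ(X, ⊤) Γ(D, ⊤)).toLinearMap ∘ₗ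
      TensorProduct.map f LinearMap.id) h
    simp [z, Fin.sum_univ_succ, x, hfe, hf0] at h'
    exact hd0 h'
  intro hinj
  refine hz (hinj (Eq.trans ?_ (map_zero _).symm))
  have key : ∑ j : Fin (r + 1), (-1 : ℤ) ^ (j : ℕ) • tm (x j) (d j) = 0 := by
    refine TopCat.Sheaf.eq_of_locally_eq' (F := ⟨(CohB1.tensorMod E D).presheaf, (CohB1.tensorMod E D).isSheaf⟩)
      (fun p : X => (DetDeg.nonempty_chart hE e p).some.U) ⊤ (fun p => homOfLE le_top) ?_ _ 0 fun p => ?_
    · exact fun p _ => Opens.mem_iSup.2 ⟨p, (DetDeg.nonempty_chart hE e p).some.hx⟩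
    · let c := (DetDeg.nonempty_chart hE e p).some
      show (CohB1.tensorMod E D).presheaf.map (homOfLE (le_top : c.U ≤ ⊤)).op _ =
        (CohB1.tensorMod E D).presheaf.map (homOfLE (le_top : c.U ≤ ⊤)).op 0
      rw [map_zero, map_sum]
      refine Eq.trans (Finset.sum_congr rfl fun j _ => ?_)
        (sum_tm_eq_zero ψ.hom c.U c.b fun j => E.presheaf.map (homOfLE (le_top : c.U ≤ ⊤)).op (x j))
      rw [map_zsmul, tm_res]
      simp only [d]
      rw [← H11Tilde.app_map_apply, ExtPowSheaf.η_res, ExtPowSheaf.res_ιMulti]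
      rfl
  refine Eq.trans ?_ key
  show ((SecTwist.toTensor E D).app (op ⊤)).hom z = _
  rw [map_sum]
  exact Finset.sum_congr rfl fun j _ => map_zsmul _ _ _

end Groth.Agent.H25Mul
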