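import Groth.Agent.H25FM.RankRpush
import Groth.Agent.H25Rig.Rigidity

/-!
# The dimension of the global sections over the functions
-/

set_option autoImplicit false
set_option linter.style.haveILetI false
set_option backward.isDefEq.respectTransparency false

universe u

open CategoryTheory CategoryTheory.Limits AlgebraicGeometry

noncomputable section

attribute [local instance 10000] Groth.Agent.H10Coh.hasSheafifyAb Groth.Agent.H10Coh.hasWeakSheafifyAb
  Groth.Agent.H10Coh.hasExtAb Groth.Agent.H10Coh.enoughInjAb

namespace Groth.Agent.H25Mul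

/-- When there are only constant functions, `h⁰` is the dimension of the sections over the functions. -/
theorem finrank_HH_zero_eq {k : Type u} [Field k] {X : Scheme.{u}} [X.Over (Spec (CommRingCat.of k))]
    [IsProper (X ↘ Spec (CommRingCat.of k))] (hb : Function.Bijective (X ↘ Spec (CommRingCat.of k)).appTop)
    (F : X.Modules) [F.IsQuasicoherent] :
    Module.finrank k (Coh.HH X F 0) = Module.finrank Γ(X, ⊤) Γ(F, ⊤) := by
  let f := X ↘ Spec (CommRingCat.of k)
  haveI := Groth.Agent.H10Coh.enoughInjMod X
  rw [Groth.Agent.H25FM.finrank_HH_eq_rpush F 0,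
    Groth.Agent.H25FM.finrank_sections_congr ((Scheme.Modules.pushforward f).rightDerivedZeroIsoSelf.app F)]
  exact congrArg Cardinal.toNat (rank_eq_of_equiv_equiv f.appTop (AddEquiv.refl Γ(F, ⊤)) hb fun _ _ => rfl)

end Groth.Agent.H25Mul
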